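import Mathlib

/-! Teichmüller multiplication on coefficients and Witt vectors of a multiplicative filtration. -/

universe u v

namespace WittFiltLib

open WittVector MvPolynomial

variable (p : ℕ) [Fact p.Prime]

lemma scale_ghost {T : Type u} [CommRing T] (r : T) (a : ℕ → T) (k : ℕ) :
    ghostComponent k (teichmuller p r * WittVector.mk p a) =
      ghostComponent k (WittVector.mk p fun i => r ^ p ^ i * a i) := by
  rw [map_mul, ghostComponent_teichmuller, ghostComponent_apply, ghostComponent_apply,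
    aeval_wittPolynomial, aeval_wittPolynomial, Finset.mul_sum]
  refine Finset.sum_congr rfl fun i hi => ?_
  rw [WittVector.coeff_mk, WittVector.coeff_mk, mul_pow, ← pow_mul, ← pow_add,
    Nat.add_sub_cancel' (Nat.lt_succ_iff.1 (Finset.mem_range.1 hi))]
  ring

lemma scale_rat {σ : Type u} (r : MvPolynomial σ ℚ) (a : ℕ → MvPolynomial σ ℚ) :
    teichmuller p r * WittVector.mk p a = WittVector.mk p fun i => r ^ p ^ i * a i := by
  apply (ghostMap.bijective_of_invertible p (MvPolynomial σ ℚ)).1
  funext k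
  simp only [ghostMap_apply, scale_ghost]

lemma scale_int {σ : Type u} (r : MvPolynomial σ ℤ) (a : ℕ → MvPolynomial σ ℤ) :
    teichmuller p r * WittVector.mk p a = WittVector.mk p fun i => r ^ p ^ i * a i := by
  refine map_injective (MvPolynomial.map (Int.castRingHom ℚ))
    (MvPolynomial.map_injective _ Int.cast_injective) ?_
  have h : ∀ b : ℕ → MvPolynomial σ ℤ, WittVector.map (MvPolynomial.map (Int.castRingHom ℚ))
      (WittVector.mk p b) = WittVector.mk p fun i => MvPolynomial.map (Int.castRingHom ℚ) (b i) :=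
    fun b => rfl
  rw [map_mul, map_teichmuller, h, h, scale_rat]
  simp only [map_mul, map_pow]

lemma teichmuller_mul_coeff {T : Type u} [CommRing T] (r : T) (φ : WittVector p T) (n : ℕ) :
    (teichmuller p r * φ).coeff n = r ^ p ^ n * φ.coeff n := by
  let f : MvPolynomial (Option ℕ) ℤ →+* T :=
    MvPolynomial.eval₂Hom (Int.castRingHom T) (fun o => o.elim r φ.coeff)
  have hr : f (X none) = r := by simp [f]
  have hφ : WittVector.map f (WittVector.mk p fun i => X (some i)) = φ := by
    ext i; simp [f, map_coeff]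
  rw [← hr, ← hφ, ← map_teichmuller, ← map_mul, scale_int, map_coeff, map_coeff,
    WittVector.coeff_mk, WittVector.coeff_mk, map_mul, map_pow]

variable {A : Type u} {K : Type v} [CommRing A] [CommRing K] [Algebra A K] (M : ℕ → Submodule A K)
  (hmul : ∀ (i j : ℕ) (a b : K), a ∈ M i → b ∈ M j → a * b ∈ M (i + j))

/-- Polynomials with scalar constant term and `i`-th coefficient in `M i`. -/
def rees (hmul : ∀ (i j : ℕ) (a b : K), a ∈ M i → b ∈ M j → a * b ∈ M (i + j)) : Subalgebra A (Polynomial K) where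
  carrier := {f | f.coeff 0 ∈ Set.range (algebraMap A K) ∧ ∀ i, 0 < i → f.coeff i ∈ M i}
  mul_mem' := by
    intro f g hf hg
    obtain ⟨⟨a, ha⟩, hf⟩ := hf
    obtain ⟨⟨b, hb⟩, hg⟩ := hg
    refine ⟨⟨a * b, by rw [map_mul, ha, hb, Polynomial.mul_coeff_zero]⟩, fun i hi => ?_⟩
    rw [Polynomial.coeff_mul]
    refine Submodule.sum_mem _ fun x hx => ?_
    have hx : x.1 + x.2 = i := Finset.HasAntidiagonal.mem_antidiagonal.1 hx
    rcases Nat.eq_zero_or_pos x.1 with h1 | h1
    · rw [h1, ← ha, ← Algebra.smul_def]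
      exact Submodule.smul_mem _ _ (by rw [← hx, h1, zero_add]; exact hg _ (by omega))
    · rcases Nat.eq_zero_or_pos x.2 with h2 | h2
      · rw [h2, ← hb, mul_comm, ← Algebra.smul_def]
        exact Submodule.smul_mem _ _ (by rw [← hx, h2, add_zero]; exact hf _ h1)
      · exact hx ▸ hmul _ _ _ _ (hf _ h1) (hg _ h2)
  add_mem' := by
    intro f g hf hg
    obtain ⟨⟨a, ha⟩, hf⟩ := hf
    obtain ⟨⟨b, hb⟩, hg⟩ := hg
    exact ⟨⟨a + b, by rw [map_add, ha, hb, Polynomial.coeff_add]⟩,
      fun i hi => by rw [Polynomial.coeff_add]; exact add_mem (hf i hi) (hg i hi)⟩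
  algebraMap_mem' a := ⟨⟨a, by simp [Polynomial.algebraMap_apply]⟩,
    fun i hi => by simp [Polynomial.algebraMap_apply, Polynomial.coeff_C, hi.ne']⟩

include hmul in
lemma main (φ : WittVector p K) (hφ : ∀ n, φ.coeff n ∈ M (p ^ n)) :
    ∃ Φ : WittVector p (rees M hmul), WittVector.map (rees M hmul).val.toRingHom Φ =
      teichmuller p Polynomial.X * WittVector.map Polynomial.C φ := by
  have hm : ∀ i, (Polynomial.X : Polynomial K) ^ p ^ i * Polynomial.C (φ.coeff i) ∈ rees M hmul := by
    intro i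
    have hp : 0 < p ^ i := pow_pos (Fact.out : p.Prime).pos i
    rw [Polynomial.X_pow_mul]
    refine ⟨⟨0, ?_⟩, fun j hj => ?_⟩
    · rw [Polynomial.coeff_C_mul_X_pow, if_neg hp.ne, map_zero]
    · rw [Polynomial.coeff_C_mul_X_pow]
      split_ifs with h
      · exact h ▸ hφ i
      · exact zero_mem _
  refine ⟨WittVector.mk p fun i => ⟨_, hm i⟩, ?_⟩
  ext1 i
  rw [teichmuller_mul_coeff, map_coeff, map_coeff, WittVector.coeff_mk]
  rfl

include hmul in
lemma extract (Φ : WittVector p (rees M hmul)) (ψ : WittVector p K)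
    (h : WittVector.map (rees M hmul).val.toRingHom Φ =
      teichmuller p Polynomial.X * WittVector.map Polynomial.C ψ) (n : ℕ) :
    ψ.coeff n ∈ M (p ^ n) := by
  have h1 := congrArg (fun w => (WittVector.coeff w n).coeff (p ^ n)) h
  simp only [teichmuller_mul_coeff, map_coeff, Polynomial.X_pow_mul,
    Polynomial.coeff_C_mul_X_pow, if_pos] at h1
  rw [← h1]
  exact (Φ.coeff n).2.2 _ (pow_pos (Fact.out : p.Prime).pos n)

end WittFiltLib
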